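import Mathlib
import Cfsg.Agent.Char.Integral

/-!
The isometry group of an anisotropic quadratic map from an elementary abelian 2-group to a group
of order at most four is solvable.
-/

set_option autoImplicit false

namespace Cfsg.Agent.ThreeInv

open Finset

theorem isSolvable_two_primes {G : Type*} [Group G] [Finite G] (r : ℕ) (hr : r.Prime)
    (h : ∀ p : ℕ, p.Prime → p ∣ Nat.card G → p = 2 ∨ p = r) : Group.IsSolvable G := by
  refine Cfsg.Agent.Char.isSolvable_of_card_eq 2 r Nat.prime_two hr _ G rfl ?_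
  by_cases hr2 : r = 2
  · refine ⟨_, 0, (Nat.eq_prime_pow_of_unique_prime_dvd Nat.card_pos.ne' (fun {p} hp hd => ?_)).trans
      (mul_one _).symm⟩
    rcases h p hp hd with e | e <;> omega
  · obtain ⟨a, m, hm, he⟩ := Nat.exists_eq_pow_mul_and_not_dvd (Nat.card_pos (α := G)).ne' 2 (by norm_num)
    have hm0 : m ≠ 0 := fun e => hm (e ▸ dvd_zero 2)
    refine ⟨a, _, he.trans (congrArg (2 ^ a * ·)
      (Nat.eq_prime_pow_of_unique_prime_dvd hm0 (p := r) (fun {p} hp hd => ?_)))⟩
    rcases h p hp (he ▸ hd.mul_left _) with e | e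
    · exact absurd (e ▸ hd) hm
    · exact e

theorem isSolvable_perm_small {α : Type*} [Finite α] (h : Nat.card α ≤ 4) :
    Group.IsSolvable (Equiv.Perm α) := by
  refine isSolvable_two_primes 3 Nat.prime_three fun p hp hd => ?_
  rw [Nat.card_perm] at hd
  have := hp.dvd_factorial.1 hd
  have := hp.two_le
  rcases (show p = 2 ∨ p = 3 ∨ p = 4 by omega) with e | e | e
  · exact Or.inl e
  · exact Or.inr e
  · subst e; norm_num at hp

/-- `F₂ⁿ`. -/
abbrev Vec (n : ℕ) := Fin n → ZMod 2

theorem vec_two {n : ℕ} (v : Vec n) : v + v = 0 := funext fun i => CharTwo.add_self_eq_zero (v i)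

variable {n : ℕ}

theorem q_zero (q : Vec n → Vec 2) (β : Vec n →+ Vec n →+ Vec 2)
    (hq : ∀ u v, q (u + v) = q u + q v + β u v) : q 0 = 0 := by
  have h := hq 0 0
  simp only [add_zero, map_zero, AddMonoidHom.zero_apply, vec_two] at h
  exact h

theorem formula (q : Vec n → Vec 2) (β : Vec n →+ Vec n →+ Vec 2)
    (hq : ∀ u v, q (u + v) = q u + q v + β u v) :
    ∃ C : Fin 2 → Fin n → Fin n → ZMod 2,
      ∀ v k, q v k = ∑ i, ∑ j, C k i j * (v i * v j) := by
  classical
  have hs : ∀ (c : ZMod 2) (i : Fin n), (Pi.single i c : Vec n) = if c = 0 then 0 else Pi.single i 1 := by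
    intro c i
    rcases (show ∀ c : ZMod 2, c = 0 ∨ c = 1 by decide) c with rfl | rfl <;> simp
  let C : Fin 2 → Fin n → Fin n → ZMod 2 := fun k i j =>
    if i = j then q (Pi.single i 1) k else if i < j then β (Pi.single i 1) (Pi.single j 1) k else 0
  refine ⟨C, fun v k => ?_⟩
  have key : ∀ S : Finset (Fin n),
      q (∑ i ∈ S, Pi.single i (v i)) k = ∑ i ∈ S, ∑ j ∈ S, C k i j * (v i * v j) := by
    intro S
    induction S using Finset.induction_on_max with
    | empty => simp [q_zero q β hq]
    | insert a S ha ih =>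
      have haS : a ∉ S := fun h => lt_irrefl a (ha a h)
      have hsq : ∀ c : ZMod 2, c * c = c := by decide
      have hqa : q (Pi.single a (v a)) k = C k a a * (v a * v a) := by
        rw [hsq, hs]
        rcases (show ∀ c : ZMod 2, c = 0 ∨ c = 1 by decide) (v a) with e | e <;> rw [e]
        · simp [q_zero q β hq]
        · simp [C]
      have hb : β (∑ i ∈ S, Pi.single i (v i)) (Pi.single a (v a)) k
          = ∑ i ∈ S, C k i a * (v i * v a) := by
        rw [map_sum, AddMonoidHom.finsetSum_apply, Finset.sum_apply]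
        refine Finset.sum_congr rfl fun i hi => ?_
        rw [hs (v i), hs (v a)]
        have hne : i ≠ a := fun e => haS (e ▸ hi)
        rcases (show ∀ c : ZMod 2, c = 0 ∨ c = 1 by decide) (v i) with e | e <;>
          rcases (show ∀ c : ZMod 2, c = 0 ∨ c = 1 by decide) (v a) with e' | e' <;>
          simp [C, e, e', hne, ha i hi]
      have hz : ∀ j ∈ S, C k a j = 0 := fun j hj => by
        have hne : a ≠ j := fun e => haS (e ▸ hj)
        simp [C, hne, (ha j hj).le.not_gt]
      rw [Finset.sum_insert haS, add_comm (Pi.single a (v a) : Vec n), hq, Pi.add_apply, Pi.add_apply, ih,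
        hb, hqa, Finset.sum_insert haS, Finset.sum_insert haS]
      have h0 : ∑ j ∈ S, C k a j * (v a * v j) = 0 :=
        Finset.sum_eq_zero fun j hj => by rw [hz j hj, zero_mul]
      rw [h0, add_zero]
      simp only [Finset.sum_insert haS, Finset.sum_add_distrib]
      ring
  have := key univ
  rwa [Finset.univ_sum_single v] at this

theorem mono_five : ∀ i j k l : Fin 5,
    (∑ v : Vec 5, v i * v j * (v k * v l)) = 0 ∧ (∑ v : Vec 5, v i * v j) = 0 := by
  decide +kernel

theorem mono_four : ∀ i j : Fin 4, (∑ v : Vec 4, v i * v j) = 0 := by decide +kernel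

/-- A quadratic map to `F₂²` in five variables has a second zero. -/
theorem no_five (q : Vec 5 → Vec 2) (β : Vec 5 →+ Vec 5 →+ Vec 2)
    (hq : ∀ u v, q (u + v) = q u + q v + β u v) (ha : ∀ v, q v = 0 → v = 0) : False := by
  classical
  obtain ⟨C, hC⟩ := formula q β hq
  have h1 : ∀ k, (∑ v : Vec 5, q v k) = 0 := fun k => by
    simp only [hC]
    rw [Finset.sum_comm]
    refine Finset.sum_eq_zero fun i _ => ?_
    rw [Finset.sum_comm]
    refine Finset.sum_eq_zero fun j _ => ?_
    rw [← Finset.mul_sum, (mono_five i j i j).2, mul_zero]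
  have h2 : (∑ v : Vec 5, q v 0 * q v 1) = 0 := by
    simp only [hC, Finset.sum_mul, Finset.mul_sum]
    rw [Finset.sum_comm]
    refine Finset.sum_eq_zero fun i _ => ?_
    rw [Finset.sum_comm]
    refine Finset.sum_eq_zero fun j _ => ?_
    rw [Finset.sum_comm]
    refine Finset.sum_eq_zero fun k _ => ?_
    rw [Finset.sum_comm]
    refine Finset.sum_eq_zero fun l _ => ?_
    rw [Finset.sum_congr rfl (g := fun v : Vec 5 => C 0 k l * C 1 i j * (v i * v j * (v k * v l)))
      (fun v _ => by ring), ← Finset.mul_sum, (mono_five i j k l).1, mul_zero]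
  have h3 : (∑ v : Vec 5, (1 + q v 0) * (1 + q v 1)) = 1 := by
    rw [Finset.sum_eq_single (0 : Vec 5)]
    · simp [q_zero q β hq]
    · intro v _ hv
      have hne : q v ≠ 0 := fun e => hv (ha v e)
      rcases (show ∀ c : ZMod 2, c = 0 ∨ c = 1 by decide) (q v 0) with e | e <;>
        rcases (show ∀ c : ZMod 2, c = 0 ∨ c = 1 by decide) (q v 1) with e' | e'
      · exact absurd (funext fun i => by fin_cases i <;> simpa) hne
      all_goals rw [e, e']; decide
    · simp
  have h32 : ((Fintype.card (Vec 5) : ℕ) : ZMod 2) = 0 := by decide +kernel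
  simp only [mul_add, add_mul, one_mul, mul_one, Finset.sum_add_distrib, h1, h2,
    Finset.sum_const, Finset.card_univ, nsmul_eq_mul, h32, add_zero] at h3
  exact absurd h3 (by decide)

theorem dim_le_four (q : Vec n → Vec 2) (β : Vec n →+ Vec n →+ Vec 2)
    (hq : ∀ u v, q (u + v) = q u + q v + β u v) (ha : ∀ v, q v = 0 → v = 0) : n ≤ 4 := by
  by_contra hn
  let pad : Vec 5 →+ Vec n :=
    { toFun := fun v i => if h : (i : ℕ) < 5 then v ⟨i, h⟩ else 0
      map_zero' := by ext i; simp
      map_add' := fun u v => by ext i; by_cases h : (i : ℕ) < 5 <;> simp [h] }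
  refine no_five (fun v => q (pad v))
    (AddMonoidHom.mk' (fun u => (β (pad u)).comp pad) fun a b => by ext c; simp)
    (fun u v => by
      show q (pad (u + v)) = q (pad u) + q (pad v) + β (pad u) (pad v)
      rw [map_add, hq])
    fun v hv => ?_
  have := ha _ hv
  funext i
  have h := congrFun this ⟨i, by omega⟩
  simpa [pad] using h

theorem seven_key : ∀ (b : Fin 7 → Bool) (s f : Vec 2),
    (∑ i, if b i then s + f else s) = 0 → s = 0 ∨ s + f = 0 := by decide +kernel

theorem seven_facts (q : Fin 7 → Vec 2) (s f : Vec 2) (h : ∀ i, q i = s ∨ q i = s + f)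
    (hs : q 0 + q 1 + q 2 + q 3 + q 4 + q 5 + q 6 = 0) : s = 0 ∨ s + f = 0 := by
  classical
  refine seven_key (fun i => decide (q i ≠ s)) s f ?_
  rw [← hs]
  have e : ∀ i, (if decide (q i ≠ s) = true then s + f else s) = q i := fun i => by
    by_cases hi : q i = s
    · simp [hi]
    · simp [hi, (h i).resolve_left hi]
  simp only [e, Fin.sum_univ_seven]

theorem seven_sum (q : Vec n → Vec 2) (β : Vec n →+ Vec n →+ Vec 2)
    (hq : ∀ u v, q (u + v) = q u + q v + β u v) (x y z : Vec n) :
    q x + q y + q z + q (x + y) + q (x + z) + q (y + z) + q (x + y + z) = 0 := by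
  rw [hq (x + y) z, hq x y, hq x z, hq y z, map_add, AddMonoidHom.add_apply]
  generalize q x = a, q y = b, q z = c, β x y = d, β x z = e, β y z = f
  revert a b c d e f
  decide +kernel

theorem pentagon : ∀ σ : Equiv.Perm (Fin 5), σ ^ 3 = 1 → σ ≠ 1 →
    ∃ i : Fin 5, σ (i + 1) = σ i + 2 ∨ σ i = σ (i + 1) + 2 := by
  decide +kernel

/-- The two lengths of a chord of the pentagon. -/
def step : Fin 2 → Fin 5 := ![1, 2]

theorem vec2_facts :
    (∀ s : Vec 2, s ≠ 0 → ∃ t r : Vec 2, s ≠ t ∧ s ≠ r ∧ t ≠ r ∧ t ≠ 0 ∧ r ≠ 0 ∧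
      (univ : Finset (Vec 2)) = {0, s, t, r}) ∧
    (∀ s t : Vec 2, s ≠ 0 → t ≠ 0 → (5 * 2) • s + (5 * 1) • t ≠ 0 ∧ (5 * 3) • s ≠ 0) := by
  refine ⟨?_, ?_⟩ <;> decide +kernel

theorem pair_sum_facts :
    (∀ e : Fin 5 → ZMod 2, (∀ i, e i = 1) ∨ e = 0 ∨
      ∃ i j, e i = 1 ∧ e j = 0) ∧
    (∀ (a b : Fin 5) (s t : Fin 2), (a, s) ≠ (b, t) →
      ∃ i j, ((if i = a then (1 : ZMod 2) else 0) + (if i = a + step s then 1 else 0) +
        (if i = b then 1 else 0) + (if i = b + step t then 1 else 0) = 1) ∧
        ((if j = a then (1 : ZMod 2) else 0) + (if j = a + step s then 1 else 0) +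
        (if j = b then 1 else 0) + (if j = b + step t then 1 else 0) = 0)) := by
  constructor <;> decide +kernel

/-- The isometry group is solvable. -/
theorem isSolvable_isometry (q : Vec n → Vec 2) (β : Vec n →+ Vec n →+ Vec 2)
    (hq : ∀ u v, q (u + v) = q u + q v + β u v) (ha : ∀ v, q v = 0 → v = 0)
    (L : Subgroup (Equiv.Perm (Vec n))) (hadd : ∀ g ∈ L, ∀ u v, g (u + v) = g u + g v)
    (hpres : ∀ g ∈ L, ∀ v, q (g v) = q v) : Group.IsSolvable L := by
  classical
  have hn := dim_le_four q β hq ha
  have hq0 := q_zero q β hq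
  -- the fixed points of an element of prime order
  have hfix : ∀ g ∈ L, ∀ p : ℕ, p.Prime → orderOf g = p →
      ∃ F : AddSubgroup (Vec n), (∀ v, v ∈ F ↔ g v = v) ∧ ∃ f, f < n ∧ Nat.card F = 2 ^ f ∧
        p ∣ 2 ^ n - 2 ^ f := by
    intro g hg p hp hgp
    have : Fact p.Prime := ⟨hp⟩
    let F : AddSubgroup (Vec n) :=
      { carrier := {v | g v = v}
        add_mem' := fun {u v} hu hv => by
          show g (u + v) = u + v
          rw [hadd g hg, hu, hv]
        zero_mem' := by
          show g 0 = 0
          have := hadd g hg 0 0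
          rw [add_zero, vec_two] at this
          exact this
        neg_mem' := fun {v} hv => by
          show g (-v) = -v
          rw [show -v = v from (eq_neg_of_add_eq_zero_left (vec_two v)).symm]; exact hv }
    refine ⟨F, fun v => Iff.rfl, ?_⟩
    have hcardV : Nat.card (Vec n) = 2 ^ n := by simp [Nat.card_eq_fintype_card]
    obtain ⟨f, hf, hfc⟩ := (Nat.dvd_prime_pow Nat.prime_two).1 (hcardV ▸ AddSubgroup.card_addSubgroup_dvd_card F)
    have hPG : IsPGroup p (Subgroup.zpowers g) :=
      IsPGroup.of_card (n := 1) (by rw [Nat.card_zpowers, hgp, pow_one])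
    have hmod := hPG.card_modEq_card_fixedPoints (Vec n)
    have hfx : Nat.card (MulAction.fixedPoints (Subgroup.zpowers g) (Vec n)) = Nat.card F := by
      refine Nat.card_congr (Equiv.subtypeEquivRight fun v => ?_)
      constructor
      · intro h; exact h ⟨g, Subgroup.mem_zpowers g⟩
      · rintro h ⟨y, hy⟩
        have hle : Subgroup.zpowers g ≤ MulAction.stabilizer (Equiv.Perm (Vec n)) v :=
          Subgroup.zpowers_le.2 h
        exact hle hy
    rw [hfx, hcardV, hfc] at hmod
    refine ⟨f, lt_of_le_of_ne hf fun e => ?_, hfc,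
      (Nat.modEq_iff_dvd' (Nat.pow_le_pow_right two_pos hf)).1 hmod.symm⟩
    have hall : F = ⊤ := AddSubgroup.eq_top_of_card_eq _ (by rw [hfc, hcardV, e])
    have : g = 1 := Equiv.ext fun v => (show v ∈ F from hall ▸ AddSubgroup.mem_top v)
    rw [this, orderOf_one] at hgp
    exact hp.ne_one hgp.symm
  -- no elements of order seven
  have h7 : ∀ g ∈ L, orderOf g ≠ 7 := by
    intro g hg hgo
    have hp7 : Nat.Prime 7 := by norm_num
    obtain ⟨F, hF, f, hfn, hfc, hdvd⟩ := hfix g hg 7 hp7 hgo
    have hnf : n = f + 3 ∧ f ≤ 1 := by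
      interval_cases n <;> interval_cases f <;> norm_num at hdvd <;> omega
    obtain ⟨hn3, hf1⟩ := hnf
    have hF2 : Nat.card F ≤ 2 := by
      rw [hfc]; calc 2 ^ f ≤ 2 ^ 1 := Nat.pow_le_pow_right two_pos hf1
                     _ = 2 := by norm_num
    obtain ⟨f0, hf0⟩ : ∃ f0 : Vec n, f0 ∈ F ∧ ∀ v ∈ F, v = 0 ∨ v = f0 := by
      by_cases h : ∃ v ∈ F, v ≠ 0
      · obtain ⟨w, hw, hw0⟩ := h
        refine ⟨w, hw, fun v hv => ?_⟩
        by_contra hne
        push Not at hne
        have h3 : ({0, w, v} : Finset (Vec n)).card = 3 := by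
          rw [Finset.card_eq_three]
          exact ⟨0, w, v, hw0.symm, hne.1.symm, hne.2.symm, rfl⟩
        have h4 : ({0, w, v} : Finset (Vec n)).card ≤ Nat.card F := by
          rw [Nat.card_eq_fintype_card, Fintype.card_subtype]
          refine Finset.card_le_card fun y hy => ?_
          simp only [Finset.mem_insert, Finset.mem_singleton] at hy
          simp only [Finset.mem_filter, Finset.mem_univ, true_and]
          rcases hy with rfl | rfl | rfl
          exacts [F.zero_mem, hw, hv]
        omega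
      · push Not at h
        exact ⟨0, F.zero_mem, fun v hv => Or.inl (h v hv)⟩
    obtain ⟨hf0F, hFel⟩ := hf0
    have hF1 : ∀ v, g v = v → v ∈ F := fun v h => (hF v).2 h
    -- an orbit of length seven
    obtain ⟨x, hx⟩ : ∃ x, g x ≠ x := by
      by_contra! h
      have : g = 1 := Equiv.ext h
      rw [this, orderOf_one] at hgo; omega
    have hgpow : ∀ (m : ℕ) (u v : Vec n), (g ^ m) (u + v) = (g ^ m) u + (g ^ m) v := fun m =>
      hadd _ (pow_mem hg m)
    have hg7 : g ^ 7 = 1 := hgo ▸ pow_orderOf_eq_one g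
    have horb : ∀ w, g w ≠ w → Function.Injective fun i : Fin 7 => (g ^ (i : ℕ)) w := by
      intro w hw
      have hper : Function.minimalPeriod g w = 7 := by
        refine (Nat.dvd_prime hp7).1 (Function.IsPeriodicPt.minimalPeriod_dvd ?_) |>.resolve_left ?_
        · show g^[7] w = w
          rw [← Equiv.Perm.coe_pow, hg7]; rfl
        · exact fun h => hw (Function.minimalPeriod_eq_one_iff_isFixedPt.1 h)
      intro a b hab
      simp only [Equiv.Perm.coe_pow] at hab
      exact Fin.ext ((Function.iterate_eq_iterate_iff_of_lt_minimalPeriod (f := g)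
        (by rw [hper]; exact a.2) (by rw [hper]; exact b.2)).1 hab)
    have hgf : ∀ m : ℕ, (g ^ m) f0 = f0 := fun m => by
      induction m with
      | zero => rfl
      | succ m ih => rw [pow_succ', Equiv.Perm.mul_apply, ih]; exact (hF f0).1 hf0F
    have hxf : g (x + f0) ≠ x + f0 := fun h => hx (by
      have := hadd g hg x f0
      rw [h, (hF f0).1 hf0F] at this
      exact (add_right_cancel this).symm)
    have hcover : ∀ w, g w ≠ w → ∃ i : Fin 7, w = (g ^ (i : ℕ)) x ∨ w = (g ^ (i : ℕ)) x + f0 := by
      intro w hw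
      by_contra hne
      push Not at hne
      let A : Finset (Vec n) := univ.image fun i : Fin 7 => (g ^ (i : ℕ)) x
      let B : Finset (Vec n) := univ.image fun i : Fin 7 => (g ^ (i : ℕ)) w
      have hA : A.card = 7 := by rw [Finset.card_image_of_injective _ (horb x hx)]; rfl
      have hB : B.card = 7 := by rw [Finset.card_image_of_injective _ (horb w hw)]; rfl
      have hsub : ∀ (i j : Fin 7) (c : Vec n), (∀ m : ℕ, (g ^ m) c = c) →
          (g ^ (i : ℕ)) w = (g ^ (j : ℕ)) x + c → ∃ k : Fin 7, w = (g ^ (k : ℕ)) x + c := by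
        intro i j c hc he
        refine ⟨⟨(7 - i + j) % 7, Nat.mod_lt _ (by norm_num)⟩, ?_⟩
        have h1 := congrArg (g ^ (7 - (i : ℕ))) he
        rw [← Equiv.Perm.mul_apply, ← pow_add, hgpow, hc, ← Equiv.Perm.mul_apply, ← pow_add,
          Nat.sub_add_cancel i.2.le, hg7, Equiv.Perm.one_apply] at h1
        rw [h1, pow_eq_pow_mod _ hg7]
      have hAB : Disjoint A B := by
        rw [Finset.disjoint_left]
        intro v hvA hvB
        simp only [A, B, Finset.mem_image, Finset.mem_univ, true_and] at hvA hvB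
        obtain ⟨j, rfl⟩ := hvA
        obtain ⟨i, hi⟩ := hvB
        obtain ⟨k, hk⟩ := hsub i j 0 (fun m => by
          have := hgpow m 0 0
          rw [add_zero, vec_two] at this; exact this) (by rw [add_zero]; exact hi)
        exact (hne k).1 (by rw [hk, add_zero])
      have hcard : Fintype.card (Vec n) = 2 ^ n := by simp
      rcases (show f = 0 ∨ f = 1 by omega) with rfl | rfl
      · have := Finset.card_le_univ (A ∪ B)
        rw [Finset.card_union_of_disjoint hAB, hA, hB, hcard, hn3] at this
        norm_num at this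
      · let A' : Finset (Vec n) := univ.image fun i : Fin 7 => (g ^ (i : ℕ)) (x + f0)
        have hA' : A'.card = 7 := by rw [Finset.card_image_of_injective _ (horb _ hxf)]; rfl
        have hA'B : Disjoint A' B := by
          rw [Finset.disjoint_left]
          intro v hvA hvB
          simp only [A', B, Finset.mem_image, Finset.mem_univ, true_and] at hvA hvB
          obtain ⟨j, rfl⟩ := hvA
          obtain ⟨i, hi⟩ := hvB
          rw [hgpow, hgf] at hi
          obtain ⟨k, hk⟩ := hsub i j f0 hgf hi
          exact (hne k).2 hk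
        have hf01 : f0 ≠ 0 := by
          intro e
          have h1 : Nat.card F = 2 := by rw [hfc]; norm_num
          have : Nat.card F ≤ 1 := by
            rw [← Nat.card_unique (α := Unit)]
            exact Nat.card_le_card_of_injective (fun _ => ()) fun a b _ => Subtype.ext (by
              rcases hFel a a.2 with ha' | ha' <;> rcases hFel b b.2 with hb' | hb' <;>
                rw [ha', hb'] <;> simp [e])
          omega
        have hAA' : Disjoint A A' := by
          rw [Finset.disjoint_left]
          intro v hvA hvA'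
          simp only [A, A', Finset.mem_image, Finset.mem_univ, true_and] at hvA hvA'
          obtain ⟨j, rfl⟩ := hvA
          obtain ⟨i, hi⟩ := hvA'
          rw [hgpow, hgf] at hi
          -- `d` moves `x` by the fixed vector `f0`
          have h1 := congrArg (g ^ (7 - (i : ℕ))) hi
          rw [hgpow, hgf, ← Equiv.Perm.mul_apply, ← pow_add, Nat.sub_add_cancel i.2.le, hg7,
            Equiv.Perm.one_apply, ← Equiv.Perm.mul_apply, ← pow_add] at h1
          have h2 := congrArg (g ^ (7 - (i : ℕ) + (j : ℕ))) h1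
          rw [hgpow, hgf, ← h1, add_assoc, vec_two, add_zero] at h2
          -- so a power of `g` has period two on `x`
          obtain ⟨d, hd⟩ : ∃ d, d = 7 - (i : ℕ) + (j : ℕ) := ⟨_, rfl⟩
          rw [← hd] at h1 h2
          have h2' : (g ^ (2 * d)) x = x := by
            rw [two_mul, pow_add, Equiv.Perm.mul_apply, ← h1, hgpow, hgf, ← h1, add_assoc, vec_two,
              add_zero]
          have h7' : (g ^ (7 * d)) x = x := by rw [pow_mul, hg7, one_pow]; rfl
          have hd1 : (g ^ d) x = x := by
            have h6 : (g ^ (6 * d)) x = x := by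
              rw [show 6 * d = 2 * d + (2 * d + 2 * d) by ring, pow_add, Equiv.Perm.mul_apply,
                pow_add, Equiv.Perm.mul_apply, h2', h2', h2']
            rw [show 7 * d = d + 6 * d by ring, pow_add, Equiv.Perm.mul_apply, h6] at h7'
            exact h7'
          rw [hd1] at h1
          exact hf01 (by
            have := congrArg (x + ·) h1
            simpa [← add_assoc, vec_two] using this)
        have := Finset.card_le_univ (A ∪ A' ∪ B)
        rw [Finset.card_union_of_disjoint (Finset.disjoint_union_left.2 ⟨hAB, hA'B⟩),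
          Finset.card_union_of_disjoint hAA', hA, hA', hB, hcard, hn3] at this
        norm_num at this
    have hqorb : ∀ m : ℕ, ∀ w, q ((g ^ m) w) = q w := fun m => hpres _ (pow_mem hg m)
    -- three vectors independent modulo `F`
    obtain ⟨y, hy⟩ : ∃ y : Vec n, g y ≠ y ∧ g (x + y) ≠ x + y := by
      by_contra! h
      have hsub : ∀ v : Vec n, v ∈ F ∨ x + v ∈ F := fun v => by
        by_cases hv : g v = v
        · exact Or.inl (hF1 v hv)
        · exact Or.inr (hF1 _ (h v hv))
      have hle : Fintype.card (Vec n) ≤ 2 * Nat.card F := by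
        rw [← Nat.card_eq_fintype_card]
        have := Nat.card_le_card_of_injective (β := Bool × F)
          (fun v => if hv : v ∈ F then (false, ⟨v, hv⟩) else (true, ⟨x + v, (hsub v).resolve_left hv⟩))
          (by
            intro a b hab
            by_cases h1 : a ∈ F <;> by_cases h2 : b ∈ F <;>
              simp only [h1, h2, dite_true, dite_false, Prod.mk.injEq, Subtype.mk.injEq,
                Bool.false_eq_true, Bool.true_eq_false, false_and, true_and] at hab
            · exact hab
            · exact add_left_cancel hab)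
        rwa [Nat.card_prod, Nat.card_eq_fintype_card (α := Bool), Fintype.card_bool] at this
      have : 8 ≤ Fintype.card (Vec n) := by
        simp only [Fintype.card_fun, ZMod.card, Fintype.card_fin]
        calc 8 = 2 ^ 3 := by norm_num
          _ ≤ 2 ^ n := Nat.pow_le_pow_right two_pos (by omega)
      omega
    obtain ⟨z, hz⟩ : ∃ z : Vec n, g z ≠ z ∧ g (x + z) ≠ x + z ∧ g (y + z) ≠ y + z ∧
        g (x + y + z) ≠ x + y + z := by
      by_contra! h
      have hsub : ∀ v : Vec n, v ∈ F ∨ x + v ∈ F ∨ y + v ∈ F ∨ x + y + v ∈ F := fun v => by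
        by_cases hv : g v = v
        · exact Or.inl (hF1 v hv)
        by_cases hv1 : g (x + v) = x + v
        · exact Or.inr (Or.inl (hF1 _ hv1))
        by_cases hv2 : g (y + v) = y + v
        · exact Or.inr (Or.inr (Or.inl (hF1 _ hv2)))
        exact Or.inr (Or.inr (Or.inr (hF1 _ (h v hv hv1 hv2))))
      let c : Fin 4 → Vec n := ![0, x, y, x + y]
      have hex : ∀ v, ∃ i, c i + v ∈ F := fun v => by
        rcases hsub v with h' | h' | h' | h'
        exacts [⟨0, by simpa [c] using h'⟩, ⟨1, h'⟩, ⟨2, h'⟩, ⟨3, h'⟩]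
      choose i hi using hex
      have hle := Nat.card_le_card_of_injective (β := Fin 4 × F)
        (fun v => (i v, (⟨c (i v) + v, hi v⟩ : F))) (fun a b hab => by
          simp only [Prod.mk.injEq, Subtype.mk.injEq] at hab
          obtain ⟨h1, h2⟩ := hab
          rw [h1] at h2
          exact add_left_cancel h2)
      rw [Nat.card_prod, Nat.card_eq_fintype_card (α := Vec n), Nat.card_eq_fintype_card (α := Fin 4)] at hle
      simp only [Fintype.card_fun, ZMod.card, Fintype.card_fin, hn3, hfc, pow_add] at hle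
      have : 0 < 2 ^ f := Nat.two_pow_pos f
      omega
    have hval : ∀ w, g w ≠ w → q w = q x ∨ q w = q x + (q x + q (x + f0)) := by
      intro w hw
      obtain ⟨i, e | e⟩ := hcover w hw
      · exact Or.inl (by rw [e, hqorb])
      · refine Or.inr ?_
        have e2 : (g ^ (i : ℕ)) x + f0 = (g ^ (i : ℕ)) (x + f0) := by rw [hgpow, hgf]
        rw [← add_assoc, vec_two, zero_add, e, e2, hqorb]
    have := seven_facts ![q x, q y, q z, q (x + y), q (x + z), q (y + z), q (x + y + z)] (q x)
      (q x + q (x + f0)) (fun i => by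
        fin_cases i
        exacts [hval _ hx, hval _ hy.1, hval _ hz.1, hval _ hy.2, hval _ hz.2.1, hval _ hz.2.2.1,
          hval _ hz.2.2.2])
      (seven_sum q β hq x y z)
    rcases this with h | h
    · exact hx (by rw [ha x h]; exact (hF 0).1 F.zero_mem)
    · rw [← add_assoc, vec_two, zero_add] at h
      exact hxf (by rw [ha _ h]; exact (hF 0).1 F.zero_mem)
  -- the primes of the order
  have hprimes : ∀ p : ℕ, p.Prime → p ∣ Nat.card L → p = 2 ∨ p = 3 ∨ p = 5 := by
    intro p hp hd
    have : Fact p.Prime := ⟨hp⟩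
    obtain ⟨g, hgo⟩ := exists_prime_orderOf_dvd_card' p hd
    rw [← Subgroup.orderOf_coe] at hgo
    obtain ⟨F, -, f, hfn, -, hdvd⟩ := hfix g g.2 p hp hgo
    have hne7 : p ≠ 7 := fun e => h7 g g.2 (hgo.trans e)
    have hsplit : 2 ^ n - 2 ^ f = 2 ^ f * (2 ^ (n - f) - 1) := by
      rw [Nat.mul_sub, ← pow_add, mul_one, Nat.add_sub_cancel' hfn.le]
    rw [hsplit] at hdvd
    rcases hp.dvd_mul.1 hdvd with h | h
    · exact Or.inl ((Nat.prime_dvd_prime_iff_eq hp Nat.prime_two).1 (hp.dvd_of_dvd_pow h))
    · obtain ⟨d, hd'⟩ : ∃ d, d = n - f := ⟨_, rfl⟩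
      rw [← hd'] at h
      have h1 : 1 ≤ d := by omega
      have h4 : d ≤ 4 := by omega
      have hp2 := hp.two_le
      interval_cases d
      · have := Nat.le_of_dvd (by norm_num) h; omega
      · have := Nat.le_of_dvd (by norm_num) h; omega
      · have := Nat.le_of_dvd (by norm_num) h
        interval_cases p <;> first | omega | (norm_num at h hp ⊢)
      · have := Nat.le_of_dvd (by norm_num) h
        interval_cases p <;> first | omega | (norm_num at h hp)
  by_cases h5 : 5 ∣ Nat.card L
  swap
  · refine isSolvable_two_primes 3 Nat.prime_three fun p hp hd => ?_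
    rcases hprimes p hp hd with e | e | e
    exacts [Or.inl e, Or.inr e, absurd (e ▸ hd) h5]
  by_cases h3 : 3 ∣ Nat.card L
  swap
  · refine isSolvable_two_primes 5 (by norm_num) fun p hp hd => ?_
    rcases hprimes p hp hd with e | e | e
    exacts [Or.inl e, absurd (e ▸ hd) h3, Or.inr e]
  exfalso
  have : Fact (Nat.Prime 5) := ⟨by norm_num⟩
  have : Fact (Nat.Prime 3) := ⟨Nat.prime_three⟩
  obtain ⟨⟨g, hg⟩, hgo⟩ := exists_prime_orderOf_dvd_card' 5 h5
  obtain ⟨⟨h, hh⟩, hho⟩ := exists_prime_orderOf_dvd_card' 3 h3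
  rw [Subgroup.orderOf_mk] at hgo hho
  obtain ⟨F, hF, f, hfn, hfc, hdvd⟩ := hfix g hg 5 (by norm_num) hgo
  have hn4 : n = 4 ∧ f = 0 := by
    interval_cases n <;> interval_cases f <;> first | omega | (norm_num at hdvd)
  obtain ⟨rfl, rfl⟩ := hn4
  have hF0 : ∀ v, g v = v → v = 0 := fun v hv => by
    have : Subsingleton F := (Nat.card_eq_one_iff_unique.1 (by rw [hfc]; norm_num)).1
    exact congrArg Subtype.val (Subsingleton.elim (⟨v, (hF v).2 hv⟩ : F) 0)
  have hg5 : g ^ 5 = 1 := hgo ▸ pow_orderOf_eq_one g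
  have horb : ∀ w, w ≠ 0 → Function.Injective fun i : Fin 5 => (g ^ (i : ℕ)) w := by
    intro w hw
    have hper : Function.minimalPeriod g w = 5 := by
      refine (Nat.dvd_prime (by norm_num)).1 (Function.IsPeriodicPt.minimalPeriod_dvd ?_) |>.resolve_left ?_
      · show g^[5] w = w
        rw [← Equiv.Perm.coe_pow, hg5]; rfl
      · exact fun e => hw (hF0 w (Function.minimalPeriod_eq_one_iff_isFixedPt.1 e))
    intro a b hab
    simp only [Equiv.Perm.coe_pow] at hab
    exact Fin.ext ((Function.iterate_eq_iterate_iff_of_lt_minimalPeriod (f := g)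
      (by rw [hper]; exact a.2) (by rw [hper]; exact b.2)).1 hab)
  have hqorb : ∀ m : ℕ, ∀ w, q ((g ^ m) w) = q w := fun m => hpres _ (pow_mem hg m)
  -- the fibres
  obtain ⟨C, hC⟩ := formula q β hq
  have hsum : (∑ v : Vec 4, q v) = 0 := by
    funext k
    rw [Finset.sum_apply]
    simp only [hC]
    rw [Finset.sum_comm]
    refine Finset.sum_eq_zero fun i _ => ?_
    rw [Finset.sum_comm]
    refine Finset.sum_eq_zero fun j _ => ?_
    rw [← Finset.mul_sum, mono_four i j, mul_zero]
  let fib : Vec 2 → Finset (Vec 4) := fun s => univ.filter fun v => q v = s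
  have hfib5 : ∀ s, s ≠ 0 → 5 ∣ (fib s).card := by
    intro s hs
    have hPG : IsPGroup 5 (Subgroup.zpowers g) :=
      IsPGroup.of_card (n := 1) (by rw [Nat.card_zpowers, hgo, pow_one])
    let S : SubMulAction (Subgroup.zpowers g) (Vec 4) :=
      { carrier := {v | q v = s}
        smul_mem' := fun a v hv => by
          obtain ⟨y, hy⟩ := a
          show q (y v) = s
          rw [hpres y ((Subgroup.zpowers_le.2 hg) hy), hv] }
    have hmod := hPG.card_modEq_card_fixedPoints S
    have hno : IsEmpty (MulAction.fixedPoints (Subgroup.zpowers g) S) := by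
      constructor
      rintro ⟨⟨v, hv⟩, hfv⟩
      have := congrArg Subtype.val (hfv ⟨g, Subgroup.mem_zpowers g⟩)
      have hv0 : v = 0 := hF0 v this
      exact hs (by rw [← (show q v = s from hv), hv0, hq0])
    rw [Nat.card_of_isEmpty (α := MulAction.fixedPoints (Subgroup.zpowers g) S)] at hmod
    have h1 : Nat.card S = (fib s).card := by
      rw [← Fintype.card_subtype, ← Nat.card_eq_fintype_card]; rfl
    rw [← h1]
    exact Nat.modEq_zero_iff_dvd.1 hmod
  have hfib : ∀ s, s ≠ 0 → (fib s).card ≤ 5 := by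
    intro s hs
    by_contra hgt
    obtain ⟨t, r, hst, hsr, htr, ht, hr, huniv⟩ : ∃ t r : Vec 2, s ≠ t ∧ s ≠ r ∧ t ≠ r ∧ t ≠ 0 ∧ r ≠ 0 ∧
        (univ : Finset (Vec 2)) = {0, s, t, r} := vec2_facts.1 s hs
    have hall := Finset.card_eq_sum_card_fiberwise (f := q) (s := (univ : Finset (Vec 4)))
      (t := (univ : Finset (Vec 2))) (fun v _ => Finset.mem_univ _)
    have h0 : (fib 0).card = 1 := by
      rw [Finset.card_eq_one]
      refine ⟨0, Finset.ext fun v => ?_⟩
      simp only [fib, Finset.mem_filter, Finset.mem_univ, true_and, Finset.mem_singleton]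
      exact ⟨ha v, fun e => e ▸ hq0⟩
    rw [huniv, Finset.card_univ] at hall
    rw [Finset.sum_insert (by simp [hs.symm, ht.symm, hr.symm]), Finset.sum_insert (by simp [hst, hsr]),
      Finset.sum_insert (by simp [htr]), Finset.sum_singleton] at hall
    have h16 : Fintype.card (Vec 4) = 16 := by simp
    rw [h16] at hall
    change 16 = (fib 0).card + ((fib s).card + ((fib t).card + (fib r).card)) at hall
    have hsum' : (∑ v : Vec 4, q v) = (fib s).card • s + ((fib t).card • t + (fib r).card • r) := by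
      rw [← Finset.sum_fiberwise_of_maps_to (g := q) (t := (univ : Finset (Vec 2)))
        (fun v _ => Finset.mem_univ _), huniv,
        Finset.sum_insert (by simp [hs.symm, ht.symm, hr.symm]), Finset.sum_insert (by simp [hst, hsr]),
        Finset.sum_insert (by simp [htr]), Finset.sum_singleton]
      have e : ∀ u, (∑ v ∈ univ.filter (fun v => q v = u), q v) = (fib u).card • u := fun u => by
        rw [Finset.sum_congr rfl (fun v hv => (Finset.mem_filter.1 hv).2), Finset.sum_const]
      rw [e, e, e, e, smul_zero, zero_add]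
    rw [hsum] at hsum'
    obtain ⟨a, hA⟩ := hfib5 s hs
    obtain ⟨b, hB⟩ := hfib5 t ht
    obtain ⟨c, hc⟩ := hfib5 r hr
    rw [hA, hB, hc] at hsum' hall
    have : a = 2 ∧ b = 1 ∧ c = 0 ∨ a = 2 ∧ b = 0 ∧ c = 1 ∨ a = 3 ∧ b = 0 ∧ c = 0 := by omega
    rcases this with ⟨rfl, rfl, rfl⟩ | ⟨rfl, rfl, rfl⟩ | ⟨rfl, rfl, rfl⟩
    · exact (vec2_facts.2 s t hs ht).1 (by simpa using hsum'.symm)
    · exact (vec2_facts.2 s r hs hr).1 (by simpa using hsum'.symm)
    · exact (vec2_facts.2 s t hs ht).2 (by simpa using hsum'.symm)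
  -- one orbit, permuted by `L`
  obtain ⟨x, hx⟩ : ∃ x : Vec 4, x ≠ 0 := ⟨fun _ => 1, by decide⟩
  have hs : q x ≠ 0 := fun e => hx (ha x e)
  let v : Fin 5 → Vec 4 := fun i => (g ^ (i : ℕ)) x
  have hvinj : Function.Injective v := horb x hx
  have hO : fib (q x) = univ.image v := by
    refine (Finset.eq_of_subset_of_card_le ?_ ?_).symm
    · intro w hw
      simp only [Finset.mem_image, Finset.mem_univ, true_and] at hw
      obtain ⟨i, rfl⟩ := hw
      simp only [fib, Finset.mem_filter, Finset.mem_univ, true_and]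
      exact hqorb i x
    · rw [Finset.card_image_of_injective _ hvinj]; exact hfib _ hs
  have hσ : ∀ i, ∃ j, h (v i) = v j := fun i => by
    have : h (v i) ∈ fib (q x) := by
      simp only [fib, Finset.mem_filter, Finset.mem_univ, true_and]
      rw [hpres h hh]; exact hqorb i x
    rw [hO] at this
    simp only [Finset.mem_image, Finset.mem_univ, true_and] at this
    obtain ⟨j, hj⟩ := this
    exact ⟨j, hj.symm⟩
  choose σ hσ using hσ
  have hσinj : Function.Injective σ := fun a b e => hvinj (h.injective (by rw [hσ, hσ, e]))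
  let σ' : Equiv.Perm (Fin 5) := Equiv.ofBijective σ (Finite.injective_iff_bijective.1 hσinj)
  -- the combinations of the orbit
  let Φ : (Fin 5 → ZMod 2) →+ Vec 4 :=
    AddMonoidHom.mk' (fun e => ∑ i, e i • v i) fun a b => by
      simp [add_smul, Finset.sum_add_distrib]
  have hΦ1 : ∀ i, Φ (Pi.single i 1) = v i := fun i => by
    show (∑ j, (Pi.single i (1 : ZMod 2) : Fin 5 → ZMod 2) j • v j) = v i
    rw [Finset.sum_eq_single i]
    · simp
    · intro b _ hb; rw [Pi.single_eq_of_ne hb, zero_smul]
    · simp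
  have hgΦ : Φ.range = ⊤ := by
    have hinv : ∀ w ∈ Φ.range, g w ∈ Φ.range := by
      rintro _ ⟨e, rfl⟩
      let gh : Vec 4 →+ Vec 4 := AddMonoidHom.mk' g (hadd g hg)
      show gh (∑ i, e i • v i) ∈ Φ.range
      rw [map_sum]
      refine AddSubgroup.sum_mem _ fun i _ => ?_
      rcases (show ∀ c : ZMod 2, c = 0 ∨ c = 1 by decide) (e i) with e' | e' <;> rw [e']
      · rw [zero_smul, map_zero]; exact zero_mem _
      · rw [one_smul]
        show g ((g ^ (i : ℕ)) x) ∈ Φ.range
        refine ⟨Pi.single ⟨((i : ℕ) + 1) % 5, Nat.mod_lt _ (by norm_num)⟩ 1, ?_⟩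
        rw [hΦ1]
        show (g ^ (((i : ℕ) + 1) % 5)) x = g ((g ^ (i : ℕ)) x)
        rw [← pow_eq_pow_mod _ hg5, pow_succ', Equiv.Perm.mul_apply]
    by_contra hne
    obtain ⟨w, hw⟩ : ∃ w, w ∉ Φ.range := by
      by_contra! hc; exact hne ((AddSubgroup.eq_top_iff' _).2 hc)
    have hw0 : w ≠ 0 := fun e => hw (e ▸ zero_mem _)
    have hout : ∀ m : ℕ, (g ^ m) w ∉ Φ.range := fun m hm => by
      apply hw
      have hpow : ∀ k : ℕ, ∀ u ∈ Φ.range, (g ^ k) u ∈ Φ.range := fun k => by
        induction k with
        | zero => exact fun u hu => hu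
        | succ k ih => intro u hu; rw [pow_succ', Equiv.Perm.mul_apply]; exact hinv _ (ih u hu)
      have := hpow (4 * m) _ hm
      rwa [← Equiv.Perm.mul_apply, ← pow_add, show 4 * m + m = 5 * m by ring, pow_mul, hg5, one_pow,
        Equiv.Perm.one_apply] at this
    have hc6 : 6 ≤ Nat.card Φ.range := by
      have h1 : (insert (0 : Vec 4) (univ.image v)).card = 6 := by
        rw [Finset.card_insert_of_notMem, Finset.card_image_of_injective _ hvinj]
        · rfl
        · simp only [Finset.mem_image, Finset.mem_univ, true_and, not_exists]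
          exact fun i e => hs (by rw [← hqorb i x]; exact (congrArg q e).trans hq0)
      rw [← h1, Nat.card_eq_fintype_card, Fintype.card_subtype]
      refine Finset.card_le_card fun u hu => ?_
      simp only [Finset.mem_filter, Finset.mem_univ, true_and]
      rcases Finset.mem_insert.1 hu with rfl | hu
      · exact zero_mem _
      · obtain ⟨i, -, rfl⟩ := Finset.mem_image.1 hu
        exact ⟨_, hΦ1 i⟩
    have hdvd16 : Nat.card Φ.range ∣ 16 := by
      have := AddSubgroup.card_addSubgroup_dvd_card Φ.range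
      simpa [Nat.card_eq_fintype_card] using this
    have hlt : Nat.card Φ.range + 5 ≤ 16 := by
      rw [Nat.card_eq_fintype_card, Fintype.card_subtype]
      have h1 : (univ.filter fun u : Vec 4 => u ∈ Φ.range) ∪ univ.image (fun i : Fin 5 => (g ^ (i : ℕ)) w)
          ⊆ univ := Finset.subset_univ _
      have h2 := Finset.card_le_card h1
      rw [Finset.card_union_of_disjoint, Finset.card_image_of_injective _ (horb w hw0)] at h2
      · simpa using h2
      · rw [Finset.disjoint_left]
        intro u hu hu'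
        obtain ⟨i, -, rfl⟩ := Finset.mem_image.1 hu'
        exact hout i (Finset.mem_filter.1 hu).2
    have h8 : Nat.card Φ.range = 8 := by
      have := Nat.le_of_dvd (by norm_num) hdvd16
      obtain ⟨c, hc⟩ := hdvd16
      have : c ≤ 2 := by nlinarith
      interval_cases c <;> omega
    -- `g` would fix a non-zero element of the range
    let S : SubMulAction (Subgroup.zpowers g) (Vec 4) :=
      { carrier := Φ.range
        smul_mem' := fun a u hu => by
          obtain ⟨y, hy⟩ := a
          rw [← mem_powers_iff_mem_zpowers] at hy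
          obtain ⟨k, rfl⟩ := hy
          show (g ^ k) u ∈ Φ.range
          clear hy
          induction k with
          | zero => exact hu
          | succ k ih => rw [pow_succ', Equiv.Perm.mul_apply]; exact hinv _ ih }
    have hPG : IsPGroup 5 (Subgroup.zpowers g) :=
      IsPGroup.of_card (n := 1) (by rw [Nat.card_zpowers, hgo, pow_one])
    have hmod := hPG.card_modEq_card_fixedPoints S
    have hone : Nat.card (MulAction.fixedPoints (Subgroup.zpowers g) S) ≤ 1 := by
      rw [Finite.card_le_one_iff_subsingleton]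
      refine ⟨fun a b => Subtype.ext (Subtype.ext ?_)⟩
      have ha' := hF0 _ (congrArg Subtype.val (a.2 ⟨g, Subgroup.mem_zpowers g⟩))
      have hb' := hF0 _ (congrArg Subtype.val (b.2 ⟨g, Subgroup.mem_zpowers g⟩))
      rw [ha', hb']
    have hS8 : Nat.card S = 8 := h8
    rw [hS8] at hmod
    unfold Nat.ModEq at hmod
    omega
  have hker : ∀ e, Φ e = 0 → ¬ ∃ i j, e i = 1 ∧ e j = 0 := by
    intro e he ⟨i, j, hi, hj⟩
    have h1 := AddSubgroup.card_eq_card_quotient_mul_card_addSubgroup Φ.ker
    rw [Nat.card_congr (QuotientAddGroup.quotientKerEquivRange Φ).toEquiv, hgΦ,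
      AddSubgroup.card_top] at h1
    simp only [Nat.card_eq_fintype_card, Fintype.card_fun, ZMod.card, Fintype.card_fin] at h1
    have hk2 : Fintype.card Φ.ker = 2 := by omega
    -- the sum over the orbit vanishes
    have hones : Φ (fun _ => 1) = 0 := by
      apply hF0
      let gh : Vec 4 →+ Vec 4 := AddMonoidHom.mk' g (hadd g hg)
      show gh (∑ i, (1 : ZMod 2) • v i) = ∑ i, (1 : ZMod 2) • v i
      simp only [one_smul, map_sum]
      refine Fintype.sum_equiv (Equiv.addRight (1 : Fin 5)) _ _ fun i => ?_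
      show g ((g ^ (i : ℕ)) x) = (g ^ ((i + 1 : Fin 5) : ℕ)) x
      rw [Fin.val_add, ← pow_eq_pow_mod _ hg5, show ((1 : Fin 5) : ℕ) = 1 from rfl, pow_succ',
        Equiv.Perm.mul_apply]
    have h3 : ({0, (fun _ => 1), e} : Finset (Fin 5 → ZMod 2)).card = 3 := by
      rw [Finset.card_eq_three]
      refine ⟨0, (fun _ => 1), e, fun h => zero_ne_one (congrFun h 0), ?_, ?_, rfl⟩
      · intro h; rw [← h] at hi; exact zero_ne_one hi
      · intro h; rw [← h] at hj; exact one_ne_zero hj
    have h4 : ({0, (fun _ => 1), e} : Finset (Fin 5 → ZMod 2)).card ≤ Fintype.card Φ.ker := by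
      rw [Fintype.card_subtype]
      refine Finset.card_le_card fun u hu => ?_
      simp only [Finset.mem_insert, Finset.mem_singleton] at hu
      simp only [Finset.mem_filter, Finset.mem_univ, true_and, AddMonoidHom.mem_ker]
      rcases hu with rfl | rfl | rfl
      exacts [map_zero Φ, hones, he]
    omega
  have hne : σ' ≠ 1 := by
    intro e
    have hfix' : ∀ i, h (v i) = v i := fun i => by
      rw [hσ]; exact congrArg v (Equiv.ext_iff.1 e i)
    have : h = 1 := by
      refine Equiv.ext fun w => ?_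
      obtain ⟨c, rfl⟩ : w ∈ Φ.range := hgΦ ▸ AddSubgroup.mem_top w
      let hm : Vec 4 →+ Vec 4 := AddMonoidHom.mk' h (hadd h hh)
      show hm (∑ i, c i • v i) = ∑ i, c i • v i
      rw [map_sum]
      refine Finset.sum_congr rfl fun i _ => ?_
      rcases (show ∀ c : ZMod 2, c = 0 ∨ c = 1 by decide) (c i) with e' | e' <;> rw [e']
      · rw [zero_smul, map_zero]
      · rw [one_smul]; exact hfix' i
    rw [this, orderOf_one] at hho; omega
  have hσ3 : σ' ^ 3 = 1 := by
    refine Equiv.ext fun i => hvinj ?_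
    have h1 : ∀ i, v ((σ' ^ 3) i) = h (h (h (v i))) := fun i => by
      rw [hσ, hσ, hσ]; rfl
    rw [h1, Equiv.Perm.one_apply]
    have h3' : h ^ 3 = 1 := hho ▸ pow_orderOf_eq_one h
    exact Equiv.ext_iff.1 h3' (v i)
  have hshift : ∀ (a : Fin 5) (c : Fin 5), q (v a + v (a + c)) = q (x + v c) := fun a c => by
    have : v a + v (a + c) = (g ^ (a : ℕ)) (x + v c) := by
      rw [hadd _ (pow_mem hg _)]
      congr 1
      show (g ^ ((a + c : Fin 5) : ℕ)) x = (g ^ (a : ℕ)) ((g ^ (c : ℕ)) x)
      rw [Fin.val_add, ← pow_eq_pow_mod _ hg5, pow_add, Equiv.Perm.mul_apply]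
    rw [this, hqorb]
  obtain ⟨u, hu1, hu2⟩ : ∃ u, q (x + v 1) = u ∧ q (x + v 2) = u := by
    refine ⟨_, rfl, ?_⟩
    obtain ⟨i, hi | hi⟩ := pentagon σ' hσ3 hne
    · have e : h (v i + v (i + 1)) = v (σ i) + v (σ (i + 1)) := by rw [hadd h hh, hσ, hσ]
      have e1 := congrArg q e
      rw [hpres h hh, hshift, show σ (i + 1) = σ i + 2 from hi, hshift] at e1
      exact e1.symm
    · have e : h (v i + v (i + 1)) = v (σ (i + 1)) + v (σ i) := by rw [hadd h hh, hσ, hσ, add_comm]
      have e1 := congrArg q e
      rw [hpres h hh, hshift, show σ i = σ (i + 1) + 2 from hi, hshift] at e1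
      exact e1.symm
  let P : Fin 5 × Fin 2 → Vec 4 := fun c => v c.1 + v (c.1 + step c.2)
  have hPinj : Function.Injective P := by
    intro a b hab
    by_contra hne'
    obtain ⟨i, j, hi, hj⟩ := pair_sum_facts.2 a.1 b.1 a.2 b.2 (by simpa [Prod.ext_iff] using hne')
    refine hker (Pi.single a.1 1 + Pi.single (a.1 + step a.2) 1 + Pi.single b.1 1 +
      Pi.single (b.1 + step b.2) 1) ?_ ⟨i, j, ?_, ?_⟩
    · rw [map_add, map_add, map_add, hΦ1, hΦ1, hΦ1, hΦ1, add_assoc]
      show P a + P b = 0
      rw [hab, vec_two]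
    · simpa [Pi.single_apply] using hi
    · simpa [Pi.single_apply] using hj
  have hPu : ∀ c, q (P c) = u := fun c => by
    obtain ⟨a, s⟩ := c
    show q (v a + v (a + step s)) = u
    rw [hshift]
    fin_cases s
    · exact hu1
    · exact hu2
  have hu0 : u ≠ 0 := by
    intro e
    have h1 := ha _ (hu1.trans e)
    have : v 0 = v 1 := by
      show (g ^ ((0 : Fin 5) : ℕ)) x = v 1
      calc (g ^ ((0 : Fin 5) : ℕ)) x = x := by simp
        _ = v 1 := by
          calc x = x + (x + v 1) := by rw [h1, add_zero]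
            _ = v 1 := by rw [← add_assoc, vec_two, zero_add]
    exact absurd (hvinj this) (by decide)
  have h10 : (univ.image P).card ≤ (fib u).card := by
    refine Finset.card_le_card fun w hw => ?_
    obtain ⟨c, -, rfl⟩ := Finset.mem_image.1 hw
    simp only [fib, Finset.mem_filter, Finset.mem_univ, true_and]
    exact hPu c
  rw [Finset.card_image_of_injective _ hPinj] at h10
  have := hfib u hu0
  simp at h10
  omega

end Cfsg.Agent.ThreeInv
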