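import Mathlib
import Cfsg.Agent.Core.Frattini
import Cfsg.Agent.Fusion.Critical
import Cfsg.Agent.ThreeInv.Quadratic

/-!
A 2-group with at most three involutions has solvable automorphism group.
-/

set_option autoImplicit false

namespace Cfsg.Agent.ThreeInv

open Subgroup
open scoped commutatorElement

theorem finite_mulAut (G : Type*) [Group G] [Finite G] : Finite (MulAut G) :=
  Finite.of_injective _ MulEquiv.toEquiv_injective

theorem solvable_of_hom {A B : Type*} [Group A] [Group B] (f : A →* B) (hB : Group.IsSolvable B)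
    (hk : Group.IsSolvable f.ker) : Group.IsSolvable A :=
  solvable_of_ker_le_range f.ker.subtype f (Subgroup.range_subtype _).ge

/-- A group in which every element of odd order is trivial is a 2-group. -/
theorem two_group_of_odd {A : Type*} [Group A] [Finite A]
    (h : ∀ a : A, ∀ m : ℕ, Odd m → a ^ m = 1 → a = 1) : IsPGroup 2 A := by
  intro x
  obtain ⟨e, m, hm, he⟩ := Nat.exists_eq_two_pow_mul_odd (orderOf_pos x).ne'
  exact ⟨e, h _ m hm (by rw [← pow_mul, ← he, pow_orderOf_eq_one])⟩

theorem solvable_of_odd {A : Type*} [Group A] [Finite A]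
    (h : ∀ a : A, ∀ m : ℕ, Odd m → a ^ m = 1 → a = 1) : Group.IsSolvable A := by
  haveI : Fact (Nat.Prime 2) := ⟨Nat.prime_two⟩
  haveI := (two_group_of_odd h).isNilpotent
  infer_instance

/-- An automorphism moving `x` by a fixed element of 2-power order, and of odd order, fixes `x`. -/
theorem fix_of_step {G : Type*} [Group G] (hG : IsPGroup 2 G) (φ : MulAut G) {m : ℕ} (hm : Odd m)
    (hφ : φ ^ m = 1) {x c : G} (hx : φ x = x * c) (hc : φ c = c) : φ x = x := by
  have h : ∀ k : ℕ, (φ ^ k) x = x * c ^ k := fun k => by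
    induction k with
    | zero => simp
    | succ k ih =>
      rw [pow_succ' φ, MulAut.mul_apply, ih, map_mul, map_pow, hx, hc, pow_succ', mul_assoc]
  have h1 := h m
  rw [hφ, MulAut.one_apply] at h1
  have hcm : c ^ m = 1 := (left_eq_mul.1 h1)
  obtain ⟨k, hk⟩ := hG c
  have hc1 := pow_gcd_eq_one.mpr ⟨hcm, hk⟩
  rw [Nat.Coprime.gcd_eq_one (Nat.Coprime.pow_right k (Nat.coprime_two_right.mpr hm)), pow_one] at hc1
  rw [hx, hc1, mul_one]

theorem abelian_aut {Z : Type*} [CommGroup Z] [Finite Z] (hZ : IsPGroup 2 Z)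
    (h3 : Nat.card {x : Z // orderOf x = 2} ≤ 3) : Group.IsSolvable (MulAut Z) := by
  classical
  haveI := finite_mulAut Z
  let f : MulAut Z →* Equiv.Perm {x : Z // orderOf x = 2} :=
    { toFun := fun φ => Equiv.subtypeEquiv φ.toEquiv fun a => by
        show orderOf a = 2 ↔ orderOf (φ a) = 2
        rw [MulEquiv.orderOf_eq φ a]
      map_one' := by ext x; rfl
      map_mul' := fun a b => by ext x; rfl }
  refine solvable_of_hom f (isSolvable_perm_small (by omega)) (solvable_of_odd ?_)
  rintro ⟨φ, hφk⟩ m hm hφm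
  have hφm' : φ ^ m = 1 := congrArg Subtype.val hφm
  have hinv : ∀ e : Z, e ^ 2 = 1 → φ e = e := by
    intro e he
    by_cases h1 : e = 1
    · rw [h1, map_one]
    · have : f φ ⟨e, orderOf_eq_prime he h1⟩ = ⟨e, orderOf_eq_prime he h1⟩ := by
        rw [MonoidHom.mem_ker.1 hφk]; rfl
      exact congrArg Subtype.val this
  have key : ∀ k : ℕ, ∀ x : Z, x ^ 2 ^ k = 1 → φ x = x := by
    intro k
    induction k with
    | zero => intro x hx; rw [pow_zero, pow_one] at hx; rw [hx, map_one]
    | succ k ih =>
      intro x hx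
      rw [pow_succ', pow_mul] at hx
      have h2 := ih _ hx
      refine fix_of_step hZ φ hm hφm' (c := x⁻¹ * φ x) (by group) (hinv _ ?_)
      rw [mul_pow, inv_pow, ← map_pow, h2, inv_mul_cancel]
  refine Subtype.ext (MulEquiv.ext fun x => ?_)
  obtain ⟨k, hk⟩ := hZ x
  exact key k x hk

theorem exists_coords {A : Type*} [CommGroup A] [Finite A] (hA : ∀ a : A, a ^ 2 = 1) :
    ∃ n, Nonempty (Additive A ≃+ Vec n) := by
  classical
  obtain ⟨inst⟩ : Nonempty (Module (ZMod 2) (Additive A)) :=
    ⟨AddCommGroup.zmodModule fun v => by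
      obtain ⟨a, rfl⟩ := Additive.ofMul.surjective v
      rw [← ofMul_pow, hA]; rfl⟩
  exact ⟨_, ⟨(Module.finBasis (ZMod 2) (Additive A)).equivFun.toAddEquiv⟩⟩

open scoped IsMulCommutative

theorem class_two_aut {H : Type*} [Group H] [Finite H] (hH : IsPGroup 2 H)
    (h3 : Nat.card {x : H // orderOf x = 2} ≤ 3) (hcl : commutator H ≤ center H)
    (hsq : ∀ x : H, x ^ 2 ∈ center H) : Group.IsSolvable (MulAut H) := by
  classical
  haveI : Fact (Nat.Prime 2) := ⟨Nat.prime_two⟩
  haveI := finite_mulAut H
  haveI := finite_mulAut ↥(center H)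
  have hcm : ∀ x y : H, ⁅x, y⁆ ∈ center H := fun x y =>
    hcl (commutator_mem_commutator (mem_top x) (mem_top y))
  have hsq2 : ∀ x y : H, (x * y) ^ 2 = x ^ 2 * y ^ 2 * ⁅y, x⁆ := by
    intro x y
    have hc := mem_center_iff.1 (hcm y x)
    calc (x * y) ^ 2 = x * (⁅y, x⁆ * x) * y * y := by rw [pow_two, commutatorElement_def]; group
      _ = x * (x * ⁅y, x⁆) * y * y := by rw [hc]
      _ = x ^ 2 * (⁅y, x⁆ * (y * y)) := by rw [pow_two]; group
      _ = x ^ 2 * y ^ 2 * ⁅y, x⁆ := by rw [← hc, pow_two y]; group
  have hinv3 : Nat.card {x : ↥(center H) // orderOf x = 2} ≤ 3 := by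
    refine le_trans (Nat.card_le_card_of_injective (fun x : {x : ↥(center H) // orderOf x = 2} =>
      (⟨((x : ↥(center H)) : H), by rw [Subgroup.orderOf_coe]; exact x.2⟩ : {x : H // orderOf x = 2}))
      fun a b e => Subtype.ext (Subtype.ext (congrArg Subtype.val e :))) h3
  let r : MulAut H →* MulAut ↥(center H) :=
    { toFun := fun φ =>
        { toFun := fun z => ⟨φ (z : H), mem_center_iff.2 fun g => by
            obtain ⟨g, rfl⟩ := φ.surjective g
            rw [← map_mul, ← map_mul, mem_center_iff.1 z.2 g]⟩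
          invFun := fun z => ⟨φ.symm (z : H), mem_center_iff.2 fun g => by
            obtain ⟨g, rfl⟩ := φ.symm.surjective g
            rw [← map_mul, ← map_mul, mem_center_iff.1 z.2 g]⟩
          left_inv := fun z => Subtype.ext (φ.symm_apply_apply _)
          right_inv := fun z => Subtype.ext (φ.apply_symm_apply _)
          map_mul' := fun a b => Subtype.ext (map_mul φ _ _) }
      map_one' := by ext z; rfl
      map_mul' := fun a b => by ext z; rfl }
  refine solvable_of_hom r (abelian_aut (Z := ↥(center H)) (hH.to_subgroup _) hinv3) ?_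
  have hfix : ∀ φ : r.ker, ∀ z ∈ center H, (φ : MulAut H) z = z := fun φ z hz => by
    have : r φ ⟨z, hz⟩ = ⟨z, hz⟩ := by rw [MonoidHom.mem_ker.1 φ.2]; rfl
    exact congrArg Subtype.val this
  -- coordinates on `H / Z(H)`
  have hQ : ∀ a b : H ⧸ center H, a * b = b * a := by
    intro a b
    obtain ⟨x, rfl⟩ := QuotientGroup.mk_surjective a
    obtain ⟨y, rfl⟩ := QuotientGroup.mk_surjective b
    rw [← QuotientGroup.mk_mul, ← QuotientGroup.mk_mul, eq_comm, ← mul_inv_eq_one,
      ← QuotientGroup.mk_inv, ← QuotientGroup.mk_mul, QuotientGroup.eq_one_iff,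
      show y * x * (x * y)⁻¹ = ⁅y, x⁆ by rw [commutatorElement_def]; group]
    exact hcm y x
  letI : CommGroup (H ⧸ center H) := { (inferInstance : Group (H ⧸ center H)) with mul_comm := hQ }
  obtain ⟨n, ⟨e⟩⟩ := exists_coords (A := H ⧸ center H) fun a => by
    obtain ⟨x, rfl⟩ := QuotientGroup.mk_surjective a
    rw [← QuotientGroup.mk_pow, QuotientGroup.eq_one_iff]; exact hsq x
  let V : H → Vec n := fun x => e (Additive.ofMul (x : H ⧸ center H))
  have hVmul : ∀ x y, V (x * y) = V x + V y := fun x y => by
    simp only [V, QuotientGroup.mk_mul, ofMul_mul, map_add]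
  have hVsurj : Function.Surjective V := fun v => by
    obtain ⟨x, hx⟩ := QuotientGroup.mk_surjective (Additive.toMul (e.symm v))
    refine ⟨x, ?_⟩
    simp only [V, hx, ofMul_toMul, e.apply_symm_apply]
  have hVeq : ∀ x y, V x = V y ↔ x⁻¹ * y ∈ center H := fun x y => by
    rw [← QuotientGroup.eq]
    exact e.injective.eq_iff.trans Additive.ofMul.injective.eq_iff
  have hV0 : ∀ x, V x = 0 ↔ x ∈ center H := fun x => by
    have h1 : V 1 = 0 := by simp [V]
    rw [← h1, eq_comm, hVeq, inv_one, one_mul]
  let sec : Vec n → H := Function.surjInv hVsurj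
  have hsec : ∀ v, V (sec v) = v := Function.surjInv_eq hVsurj
  have hwd : ∀ (φ : r.ker) x, V ((φ : MulAut H) (sec (V x))) = V ((φ : MulAut H) x) := fun φ x => by
    rw [hVeq, ← map_inv, ← map_mul]
    have h := (hVeq (sec (V x)) x).1 (hsec _)
    rw [hfix φ _ h]; exact h
  let P : r.ker →* Equiv.Perm (Vec n) :=
    { toFun := fun φ =>
        { toFun := fun v => V ((φ : MulAut H) (sec v))
          invFun := fun v => V (((φ⁻¹ : r.ker) : MulAut H) (sec v))
          left_inv := fun v => by
            show V (((φ⁻¹ : r.ker) : MulAut H) (sec (V ((φ : MulAut H) (sec v))))) = v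
            rw [hwd, ← MulAut.mul_apply, ← Subgroup.coe_mul, inv_mul_cancel]; exact hsec v
          right_inv := fun v => by
            show V ((φ : MulAut H) (sec (V (((φ⁻¹ : r.ker) : MulAut H) (sec v))))) = v
            rw [hwd, ← MulAut.mul_apply, ← Subgroup.coe_mul, mul_inv_cancel]; exact hsec v }
      map_one' := Equiv.ext hsec
      map_mul' := fun a b => Equiv.ext fun v => by
        show V (((a * b : r.ker) : MulAut H) (sec v)) = V ((a : MulAut H) (sec (V ((b : MulAut H) (sec v)))))
        rw [hwd]; rfl }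
  have hP : ∀ φ x, P φ (V x) = V ((φ : MulAut H) x) := hwd
  refine solvable_of_hom P.rangeRestrict ?_ (solvable_of_odd ?_)
  swap
  · rintro ⟨⟨φ, hφr⟩, hφP⟩ m hm hφm
    have hφm' : φ ^ m = 1 := congrArg (fun t : (P.rangeRestrict.ker) => ((t : r.ker) : MulAut H)) hφm
    refine Subtype.ext (Subtype.ext (MulEquiv.ext fun x => ?_))
    have hker : P ⟨φ, hφr⟩ = 1 := congrArg Subtype.val (MonoidHom.mem_ker.1 hφP)
    have h1 : V (φ x) = V x := by
      have := hP ⟨φ, hφr⟩ x
      rw [hker] at this
      exact this.symm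
    exact fix_of_step hH φ hm hφm' (c := x⁻¹ * φ x) (by group)
      (hfix ⟨φ, hφr⟩ _ ((hVeq _ _).1 h1.symm))
  by_cases hn : n ≤ 2
  · have : Group.IsSolvable (Equiv.Perm (Vec n)) := by
      refine isSolvable_perm_small ?_
      simp only [Nat.card_eq_fintype_card, Fintype.card_fun, ZMod.card, Fintype.card_fin]
      calc 2 ^ n ≤ 2 ^ 2 := Nat.pow_le_pow_right two_pos hn
        _ = 4 := by norm_num
    exact solvable_of_solvable_injective (f := P.range.subtype) (Subgroup.subtype_injective _)
  -- the squares of the centre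
  let S : Subgroup ↥(center H) := (powMonoidHom 2).range
  obtain ⟨p, ⟨f⟩⟩ := exists_coords (A := ↥(center H) ⧸ S) fun a => by
    obtain ⟨z, rfl⟩ := QuotientGroup.mk_surjective a
    rw [← QuotientGroup.mk_pow, QuotientGroup.eq_one_iff]
    exact ⟨z, rfl⟩
  have hp : p ≤ 2 := by
    have hk : Nat.card (powMonoidHom 2 : ↥(center H) →* ↥(center H)).ker ≤ 4 := by
      have hle := Nat.card_le_card_of_injective
        (fun z : (powMonoidHom 2 : ↥(center H) →* ↥(center H)).ker =>
          if h : (z : ↥(center H)) = 1 then (none : Option {x : ↥(center H) // orderOf x = 2})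
          else some ⟨z, orderOf_eq_prime z.2 h⟩)
        (fun a b e => by
          by_cases ha : (a : ↥(center H)) = 1 <;> by_cases hb : (b : ↥(center H)) = 1
          · exact Subtype.ext (ha.trans hb.symm)
          all_goals simp only [ha, hb, dite_true, dite_false] at e
          · cases e
          · cases e
          · exact Subtype.ext (congrArg Subtype.val (Option.some.inj e) :))
      rw [Finite.card_option] at hle
      omega
    have h1 := Subgroup.card_eq_card_quotient_mul_card_subgroup S
    have h2 := Subgroup.card_eq_card_quotient_mul_card_subgroup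
      (powMonoidHom 2 : ↥(center H) →* ↥(center H)).ker
    rw [Nat.card_congr (QuotientGroup.quotientKerEquivRange _).toEquiv] at h2
    have h4 : Nat.card (↥(center H) ⧸ S) = 2 ^ p := by
      exact ((Nat.card_congr Additive.ofMul).trans (Nat.card_congr f.toEquiv)).trans
        (by simp [Nat.card_eq_fintype_card])
    have hpos : 0 < Nat.card ↥S := Nat.card_pos
    have h5 : Nat.card (↥(center H) ⧸ S) = Nat.card (powMonoidHom 2 : ↥(center H) →* ↥(center H)).ker := by
      apply Nat.eq_of_mul_eq_mul_right hpos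
      rw [← h1]
      exact h2.trans (Nat.mul_comm _ _)
    by_contra hp3
    have : 2 ^ 3 ≤ 2 ^ p := Nat.pow_le_pow_right two_pos (by omega)
    omega
  let pad : Vec p →+ Vec 2 :=
    { toFun := fun w i => if h : (i : ℕ) < p then w ⟨i, h⟩ else 0
      map_zero' := by ext i; simp
      map_add' := fun a b => by ext i; by_cases h : (i : ℕ) < p <;> simp [h] }
  let ω : ↥(center H) → Vec 2 := fun z => pad (f (Additive.ofMul (z : ↥(center H) ⧸ S)))
  have hωmul : ∀ a b, ω (a * b) = ω a + ω b := fun a b => by
    simp only [ω, QuotientGroup.mk_mul, ofMul_mul, map_add]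
  have hω0 : ∀ z, ω z = 0 ↔ z ∈ S := fun z => by
    rw [← QuotientGroup.eq_one_iff]
    constructor
    · intro h
      have h1 : f (Additive.ofMul (z : ↥(center H) ⧸ S)) = 0 := funext fun i => by
        simpa [pad, ω] using congrFun h ⟨i, by omega⟩
      have h2 := f.map_eq_zero_iff.1 h1
      exact Additive.ofMul.injective h2
    · intro h; simp [ω, h]
  let Q : H → Vec 2 := fun x => ω ⟨x ^ 2, hsq x⟩
  let B : H → H → Vec 2 := fun x y => ω ⟨⁅y, x⁆, hcm y x⟩
  have hQmul : ∀ x y, Q (x * y) = Q x + Q y + B x y := fun x y => by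
    simp only [Q, B, ← hωmul]
    congr 1
    exact Subtype.ext (hsq2 x y)
  have hBl : ∀ x x' y, B (x * x') y = B x y + B x' y := fun x x' y => by
    simp only [B, ← hωmul]
    congr 1
    exact Subtype.ext (Cfsg.Agent.Fusion.commutatorElement_mul_right_of_le_center hcl y x x')
  have hBr : ∀ x y y', B x (y * y') = B x y + B x y' := fun x y y' => by
    simp only [B, ← hωmul]
    congr 1
    exact Subtype.ext (Cfsg.Agent.Fusion.commutatorElement_mul_left_of_le_center hcl y y' x)
  have hω1 : ω 1 = 0 := (hω0 1).2 (one_mem _)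
  have hBz1 : ∀ z y, z ∈ center H → B z y = 0 := fun z y hz => by
    show ω _ = 0
    rw [show (⟨⁅y, z⁆, hcm y z⟩ : ↥(center H)) = 1 from
      Subtype.ext (commutatorElement_eq_one_iff_mul_comm.2 (mem_center_iff.1 hz y))]
    exact hω1
  have hBz2 : ∀ x z, z ∈ center H → B x z = 0 := fun x z hz => by
    show ω _ = 0
    rw [show (⟨⁅z, x⁆, hcm z x⟩ : ↥(center H)) = 1 from
      Subtype.ext (commutatorElement_eq_one_iff_mul_comm.2 (mem_center_iff.1 hz x).symm)]
    exact hω1
  have hQz : ∀ z, z ∈ center H → Q z = 0 := fun z hz => (hω0 _).2 ⟨⟨z, hz⟩, rfl⟩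
  have hQwd : ∀ x y, V x = V y → Q x = Q y := fun x y h => by
    have hz := (hVeq x y).1 h
    have e : y = x * (x⁻¹ * y) := (mul_inv_cancel_left _ _).symm
    rw [e, hQmul, hQz _ hz, hBz2 _ _ hz, add_zero, add_zero]
  have hBwd : ∀ x y x' y', V x = V x' → V y = V y' → B x y = B x' y' := fun x y x' y' h h' => by
    have hz := (hVeq x x').1 h
    have hz' := (hVeq y y').1 h'
    have e : x' = x * (x⁻¹ * x') := (mul_inv_cancel_left _ _).symm
    have e' : y' = y * (y⁻¹ * y') := (mul_inv_cancel_left _ _).symm
    rw [e, e', hBl, hBr, hBz1 _ _ hz, hBz2 _ _ hz', add_zero, add_zero]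
  let β : Vec n →+ Vec n →+ Vec 2 := AddMonoidHom.mk'
    (fun u => AddMonoidHom.mk' (fun v => B (sec u) (sec v)) fun v v' => by
      rw [← hBr]
      exact hBwd _ _ _ _ rfl (by rw [hVmul, hsec, hsec, hsec]))
    fun u u' => AddMonoidHom.ext fun v => by
      show B (sec (u + u')) (sec v) = B (sec u) (sec v) + B (sec u') (sec v)
      rw [← hBl]
      exact hBwd _ _ _ _ (by rw [hVmul, hsec, hsec, hsec]) rfl
  have hq : ∀ u v, Q (sec (u + v)) = Q (sec u) + Q (sec v) + β u v := fun u v => by
    show _ = _ + _ + B (sec u) (sec v)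
    rw [← hQmul]
    exact hQwd _ _ (by rw [hVmul, hsec, hsec, hsec])
  have hzero : ∀ v, Q (sec v) = 0 → v ≠ 0 → ∃ y : H, y ^ 2 = 1 ∧ V y = v ∧ y ∉ center H := by
    intro v hv hv0
    obtain ⟨z, hz⟩ := (hω0 _).1 hv
    have hzc : ((z : H) ^ 2) = sec v ^ 2 := congrArg Subtype.val hz
    refine ⟨sec v * (z : H)⁻¹, ?_, ?_, ?_⟩
    · have hc : Commute (sec v) (z : H)⁻¹ :=
        (mem_center_iff.1 (inv_mem z.2) (sec v) : _)
      rw [hc.mul_pow, inv_pow, hzc, mul_inv_cancel]
    · rw [hVmul, hsec, (hV0 _).2 (inv_mem z.2), add_zero]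
    · intro hc
      have h := (hV0 _).2 hc
      rw [hVmul, hsec, (hV0 _).2 (inv_mem z.2), add_zero] at h
      exact hv0 h
  by_cases hcen : ∀ x : H, orderOf x = 2 → x ∈ center H
  · refine isSolvable_isometry (fun v => Q (sec v)) β hq ?_ _ ?_ ?_
    · intro v hv
      by_contra hv0
      obtain ⟨y, hy2, -, hyc⟩ := hzero v hv hv0
      refine hyc (hcen y (orderOf_eq_prime hy2 fun e => hyc (e ▸ one_mem _)))
    · rintro _ ⟨φ, rfl⟩ u v
      rw [← hsec u, ← hsec v, ← hVmul, hP, hP, hP, map_mul, hVmul]
    · rintro _ ⟨φ, rfl⟩ v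
      show Q (sec (P φ v)) = Q (sec v)
      rw [← hsec v, hP, hsec]
      have e : Q (sec (V ((φ : MulAut H) (sec v)))) = Q ((φ : MulAut H) (sec v)) := hQwd _ _ (hsec _)
      rw [e]
      show ω _ = ω _
      congr 1
      exact Subtype.ext (by show ((φ : MulAut H) (sec v)) ^ 2 = sec v ^ 2; rw [← map_pow]; exact hfix φ _ (hsq _))
  -- a non-central involution
  exfalso
  apply hn
  push Not at hcen
  obtain ⟨u, hu, huc⟩ := hcen
  have hu1 : u ≠ 1 := fun e => huc (e ▸ one_mem _)
  have hu2 : u ^ 2 = 1 := by rw [← hu]; exact pow_orderOf_eq_one u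
  haveI : Nontrivial H := ⟨⟨u, 1, hu1⟩⟩
  haveI : Nontrivial ↥(center H) := hH.center_nontrivial
  obtain ⟨k, hk⟩ := IsPGroup.iff_card.mp (hH.to_subgroup (center H))
  obtain ⟨z, hz⟩ := exists_prime_orderOf_dvd_card' (G := ↥(center H)) 2 (by
    rcases k with _ | k
    · have := Finite.one_lt_card (α := ↥(center H)); rw [hk] at this; simp at this
    · rw [hk, pow_succ]; exact Dvd.intro_left _ rfl)
  have hz' : orderOf (z : H) = 2 := by rw [Subgroup.orderOf_coe, hz]
  have hz2 : (z : H) ^ 2 = 1 := by rw [← hz']; exact pow_orderOf_eq_one _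
  have hz1 : (z : H) ≠ 1 := fun e => by rw [e, orderOf_one] at hz'; omega
  have hcomm : Commute u (z : H) := (mem_center_iff.1 z.2 u : _)
  have huz : orderOf (u * (z : H)) = 2 := orderOf_eq_prime (by rw [hcomm.mul_pow, hu2, hz2, one_mul])
    fun e => huc (by rw [eq_inv_of_mul_eq_one_left e]; exact inv_mem z.2)
  have honly : ∀ y : H, y ^ 2 = 1 → y = 1 ∨ y = u ∨ y = z ∨ y = u * (z : H) := by
    intro y hy
    by_contra hne
    push Not at hne
    obtain ⟨hy1, hyu, hyz, hyuz⟩ := hne
    let g : Fin 4 → {x : H // orderOf x = 2} :=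
      ![⟨y, orderOf_eq_prime hy hy1⟩, ⟨u, hu⟩, ⟨z, hz'⟩, ⟨u * z, huz⟩]
    have hg : Function.Injective g := by
      intro a b hab
      have hzu : (z : H) ≠ u := fun e => huc (e ▸ z.2)
      have h1 : u * (z : H) ≠ u := fun e => hz1 (mul_eq_left.1 e)
      have h2 : u * (z : H) ≠ z := fun e => hu1 (mul_eq_right.1 e)
      have := congrArg Subtype.val hab
      fin_cases a <;> fin_cases b <;> simp only [g, Matrix.cons_val_zero, Matrix.cons_val_one,
        Matrix.cons_val, Fin.zero_eta, Fin.mk_one, Fin.reduceFinMk] at this ⊢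
      all_goals first
        | rfl
        | exact absurd this hyu | exact absurd this.symm hyu | exact absurd this hyz
        | exact absurd this.symm hyz | exact absurd this hyuz | exact absurd this.symm hyuz
        | exact absurd this hzu | exact absurd this.symm hzu | exact absurd this h1
        | exact absurd this.symm h1 | exact absurd this h2 | exact absurd this.symm h2
    have := Nat.card_le_card_of_injective g hg
    rw [Nat.card_eq_fintype_card (α := Fin 4), Fintype.card_fin] at this
    omega
  by_cases hzS : z ∈ S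
  · -- the map is additive
    have hB0 : ∀ x y, B x y = 0 := by
      intro x y
      refine (hω0 _).2 ?_
      have hsq1 : ⁅y, x⁆ ^ 2 = 1 := by
        rw [← commutatorElement_eq_one_iff_mul_comm.2 (mem_center_iff.1 (hsq y) x).symm]
        rw [pow_two, pow_two]
        exact (Cfsg.Agent.Fusion.commutatorElement_mul_left_of_le_center hcl y y x).symm
      rcases honly _ hsq1 with e | e | e | e
      · rw [show (⟨⁅y, x⁆, hcm y x⟩ : ↥(center H)) = 1 from Subtype.ext e]; exact one_mem _
      · exact absurd (e ▸ hcm y x) huc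
      · rw [show (⟨⁅y, x⁆, hcm y x⟩ : ↥(center H)) = z from Subtype.ext e]; exact hzS
      · exfalso; apply huc
        have := mul_mem (e ▸ hcm y x) (inv_mem z.2)
        rwa [mul_inv_cancel_right] at this
    let qh : Vec n →+ Vec 2 := AddMonoidHom.mk' (fun v => Q (sec v)) fun a b => by
      rw [hq]; show _ + B _ _ = _; rw [hB0, add_zero]
    have hker : ∀ v, qh v = 0 → v = 0 ∨ v = V u := by
      intro v hv
      by_contra hne
      push Not at hne
      obtain ⟨y, hy2, hyv, hyc⟩ := hzero v hv hne.1
      rcases honly y hy2 with e | e | e | e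
      · exact hyc (e ▸ one_mem _)
      · exact hne.2 (by rw [← hyv, e])
      · exact hyc (e ▸ z.2)
      · exact hne.2 (by rw [← hyv, e, hVmul, (hV0 _).2 z.2, add_zero])
    have hS : S ≠ ⊥ := fun e => hz1 (by
      have : z ∈ (⊥ : Subgroup ↥(center H)) := e ▸ hzS
      exact congrArg Subtype.val (Subgroup.mem_bot.1 this))
    -- the centre has a unique involution, so its quotient by squares has order at most two
    have hW : p ≤ 1 := by
      have hk2 : Nat.card (powMonoidHom 2 : ↥(center H) →* ↥(center H)).ker ≤ 2 := by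
        have hle := Nat.card_le_card_of_injective
          (fun w : (powMonoidHom 2 : ↥(center H) →* ↥(center H)).ker => decide ((w : ↥(center H)) = 1))
          (fun a b e => by
            have hh : ∀ w : (powMonoidHom 2 : ↥(center H) →* ↥(center H)).ker,
                (w : ↥(center H)) = 1 ∨ (w : ↥(center H)) = z := fun w => by
              have h2 : ((w : ↥(center H)) : H) ^ 2 = 1 := congrArg Subtype.val w.2
              rcases honly _ h2 with e | e | e | e
              · exact Or.inl (Subtype.ext e)
              · exact absurd (e ▸ (w : ↥(center H)).2) huc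
              · exact Or.inr (Subtype.ext e)
              · exfalso; apply huc
                have := mul_mem (e ▸ (w : ↥(center H)).2) (inv_mem z.2)
                rwa [mul_inv_cancel_right] at this
            have hzne : z ≠ 1 := fun e => hz1 (congrArg Subtype.val e)
            rcases hh a with ha | ha <;> rcases hh b with hb | hb <;>
              first
                | exact Subtype.ext (ha.trans hb.symm)
                | simp [ha, hb, hzne] at e)
        rwa [Nat.card_eq_fintype_card (α := Bool), Fintype.card_bool] at hle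
      have h1 := Subgroup.card_eq_card_quotient_mul_card_subgroup S
      have h2 := Subgroup.card_eq_card_quotient_mul_card_subgroup
        (powMonoidHom 2 : ↥(center H) →* ↥(center H)).ker
      rw [Nat.card_congr (QuotientGroup.quotientKerEquivRange _).toEquiv] at h2
      have h4 : Nat.card (↥(center H) ⧸ S) = 2 ^ p := by
        exact ((Nat.card_congr Additive.ofMul).trans (Nat.card_congr f.toEquiv)).trans
          (by simp [Nat.card_eq_fintype_card])
      have hpos : 0 < Nat.card ↥S := Nat.card_pos
      have h5 : Nat.card (↥(center H) ⧸ S) = Nat.card (powMonoidHom 2 : ↥(center H) →* ↥(center H)).ker := by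
        apply Nat.eq_of_mul_eq_mul_right hpos
        rw [← h1]
        exact h2.trans (Nat.mul_comm _ _)
      by_contra hp2
      have : 2 ^ 2 ≤ 2 ^ p := Nat.pow_le_pow_right two_pos (by omega)
      omega
    have h1 := AddSubgroup.card_eq_card_quotient_mul_card_addSubgroup qh.ker
    rw [Nat.card_congr (QuotientAddGroup.quotientKerEquivRange qh).toEquiv] at h1
    have hr : Nat.card qh.range ≤ 2 := by
      have hsub : ∀ w ∈ qh.range, w 1 = 0 := by
        rintro _ ⟨v, rfl⟩
        show pad _ 1 = 0
        exact dif_neg (by simp; omega)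
      have := Nat.card_le_card_of_injective (fun w : qh.range => (w : Vec 2) 0) fun a b e =>
        Subtype.ext (funext fun i => by
          fin_cases i
          · exact e
          · exact (hsub a a.2).trans (hsub b b.2).symm)
      rwa [Nat.card_eq_fintype_card (α := ZMod 2), ZMod.card] at this
    have hk : Nat.card qh.ker ≤ 2 := by
      have := Nat.card_le_card_of_injective (fun v : qh.ker => decide ((v : Vec n) = 0)) fun a b e => by
        by_cases ha : (a : Vec n) = 0
        · have hb : (b : Vec n) = 0 := by simpa [ha] using e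
          exact Subtype.ext (ha.trans hb.symm)
        · have hb : (b : Vec n) ≠ 0 := by simpa [ha] using e
          exact Subtype.ext (((hker a a.2).resolve_left ha).trans ((hker b b.2).resolve_left hb).symm)
      rwa [Nat.card_eq_fintype_card (α := Bool), Fintype.card_bool] at this
    have h16 := Nat.mul_le_mul hr hk
    rw [← h1] at h16
    simp only [Nat.card_eq_fintype_card, Fintype.card_fun, ZMod.card, Fintype.card_fin] at h16
    by_contra hn2
    have : 2 ^ 3 ≤ 2 ^ n := Nat.pow_le_pow_right two_pos (by omega)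
    omega
  · -- the centre has order two
    exfalso
    have hZ2 : ∀ c ∈ center H, c = 1 ∨ c = (z : H) := by
      intro c hc
      by_contra hne
      push Not at hne
      by_cases h2 : c ^ 2 = 1
      · rcases honly c h2 with e | e | e | e
        · exact hne.1 e
        · exact huc (e ▸ hc)
        · exact hne.2 e
        · apply huc
          have := mul_mem (e ▸ hc) (inv_mem z.2)
          rwa [mul_inv_cancel_right] at this
      · -- then some power of `c` squares to `z`
        obtain ⟨j, hj⟩ := hH c
        have : ∀ j : ℕ, ∀ d ∈ center H, d ^ 2 ^ j = 1 → d ^ 2 ≠ 1 → z ∈ S := by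
          intro j
          induction j with
          | zero => intro d _ h h'; rw [pow_zero, pow_one] at h; rw [h, one_pow] at h'; exact absurd rfl h'
          | succ j ih =>
            intro d hd h h'
            by_cases h4 : (d ^ 2) ^ 2 = 1
            · refine ⟨⟨d, hd⟩, Subtype.ext ?_⟩
              show d ^ 2 = (z : H)
              rcases honly _ h4 with e | e | e | e
              · exact absurd e h'
              · exact absurd (e ▸ pow_mem hd 2) huc
              · exact e
              · exfalso; apply huc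
                have := mul_mem (e ▸ pow_mem hd 2) (inv_mem z.2)
                rwa [mul_inv_cancel_right] at this
            · rw [pow_succ', pow_mul] at h
              exact ih _ (pow_mem hd 2) h h4
        exact hzS (this j c hc hj h2)
    obtain ⟨x, hx⟩ : ∃ x, x * u ≠ u * x := by
      by_contra! h; exact huc (mem_center_iff.2 h)
    have hcz : ⁅u, x⁆ = (z : H) := (hZ2 _ (hcm u x)).resolve_left
      fun e => hx (commutatorElement_eq_one_iff_mul_comm.1 e).symm
    have hno : ∀ y : H, y * u ≠ u * y → y ^ 2 = 1 → False := by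
      intro y hy hy2
      apply hy
      rcases honly y hy2 with e | e | e | e <;> rw [e]
      · simp
      · exact (mem_center_iff.1 z.2 u).symm
      · rw [mul_assoc, ← mem_center_iff.1 z.2 u]
    rcases hZ2 _ (hsq x) with e | e
    · exact hno x hx e
    · refine hno (x * u) (fun h => hx (mul_right_cancel (h.trans (mul_assoc _ _ _).symm))) ?_
      rw [hsq2, hcz, e, hu2, mul_one, ← pow_two, hz2]

/-- A finite 2-group with at most three involutions has a solvable automorphism group. -/
theorem aut_solvable {X : Type*} [Group X] [Finite X] (h2 : IsPGroup 2 X)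
    (h3 : Nat.card {x : X // orderOf x = 2} ≤ 3) : Group.IsSolvable (MulAut X) := by
  classical
  haveI : Fact (Nat.Prime 2) := ⟨Nat.prime_two⟩
  obtain ⟨H, hHc, hcl, hfr, -, hcen⟩ := Cfsg.Agent.Fusion.exists_critical h2
  have hsq : ∀ x : H, x ^ 2 ∈ center H := fun x => mem_center_iff.2 fun g => Subtype.ext (by
    have hx : x ^ 2 ∈ frattini H := Cfsg.Agent.Core.pow_mem_frattini (h2.to_subgroup H) x
    exact mem_centralizer_iff.1 (hfr ⟨_, hx, rfl⟩) g g.2)
  have h3H : Nat.card {x : H // orderOf x = 2} ≤ 3 :=
    le_trans (Nat.card_le_card_of_injective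
      (fun x : {x : H // orderOf x = 2} =>
        (⟨((x : H) : X), by rw [Subgroup.orderOf_coe]; exact x.2⟩ : {x : X // orderOf x = 2}))
      fun a b e => Subtype.ext (Subtype.ext (congrArg Subtype.val e :))) h3
  haveI := finite_mulAut X
  haveI := finite_mulAut ↥H
  let res : MulAut X →* MulAut ↥H :=
    { toFun := fun φ => (φ.subgroupMap H).trans
        (MulEquiv.subgroupCongr (Subgroup.characteristic_iff_map_eq.1 hHc φ))
      map_one' := by ext x; rfl
      map_mul' := fun a b => by ext x; rfl }
  refine solvable_of_hom res (class_two_aut (h2.to_subgroup H) h3H hcl hsq) (solvable_of_odd ?_)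
  rintro ⟨φ, hφ⟩ m hm hφm
  have hφm' : φ ^ m = 1 := congrArg Subtype.val hφm
  have hfix : ∀ x ∈ H, φ x = x := fun x hx => by
    have : res φ ⟨x, hx⟩ = ⟨x, hx⟩ := by rw [MonoidHom.mem_ker.1 hφ]; rfl
    exact congrArg Subtype.val this
  haveI := hHc
  refine Subtype.ext (MulEquiv.ext fun g => ?_)
  refine fix_of_step h2 φ hm hφm' (c := g⁻¹ * φ g) (by group) (hfix _ (hcen ?_))
  rw [mem_centralizer_iff]
  intro h hh
  have h1 : φ (g * h * g⁻¹) = g * h * g⁻¹ := hfix _ (Subgroup.Normal.conj_mem inferInstance h hh g)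
  rw [map_mul, map_mul, map_inv, hfix h hh] at h1
  calc h * (g⁻¹ * φ g) = g⁻¹ * (g * h * g⁻¹) * φ g := by group
    _ = g⁻¹ * (φ g * h * (φ g)⁻¹) * φ g := by rw [h1]
    _ = g⁻¹ * φ g * h := by group

end Cfsg.Agent.ThreeInv
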